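import Groth.Agent.SiteBase.CompactSub.Germs
import Mathlib.Topology.Separation.Regular
import Mathlib.Topology.Sheaves.SheafCondition.UniqueGluing

/-!
# Extension of families of germs from compact relatively Hausdorff subsets
-/

set_option autoImplicit false
set_option linter.unusedSectionVars false
set_option backward.isDefEq.respectTransparency false

universe u

open CategoryTheory CategoryTheory.Limits Opposite TopologicalSpace Topology
open Groth.Agent.DescentSS.Germ (gm gm_res)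

noncomputable section

namespace Groth.Agent.CompactSub

variable {X : TopCat.{u}}

/-- Distinct points of the subset are separated by open subsets of the space. -/
def RelHaus (K : Set X) : Prop :=
  ∀ x ∈ K, ∀ y ∈ K, x ≠ y → ∃ U V : Set X, IsOpen U ∧ IsOpen V ∧ x ∈ U ∧ y ∈ V ∧ Disjoint U V

lemma RelHaus.mono {K K' : Set X} (h : RelHaus K) (h' : K' ⊆ K) : RelHaus K' :=
  fun x hx y hy => h x (h' hx) y (h' hy)

lemma RelHaus.t2Space {K : Set X} (h : RelHaus K) : T2Space K :=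
  ⟨fun x y hxy => by
    obtain ⟨U, V, hU, hV, hx, hy, hd⟩ := h x x.2 y y.2 (fun e => hxy (Subtype.ext e))
    exact ⟨_, _, hU.preimage continuous_subtype_val, hV.preimage continuous_subtype_val, hx, hy,
      hd.preimage _⟩⟩

lemma RelHaus.isCompact_inter {K A B : Set X} (h : RelHaus K) (hA : IsCompact A) (hB : IsCompact B)
    (hAK : A ⊆ K) (hBK : B ⊆ K) : IsCompact (A ∩ B) := by
  have := h.t2Space
  have cA : IsCompact (Subtype.val ⁻¹' A : Set K) := by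
    rw [Subtype.isCompact_iff, Set.image_preimage_eq_inter_range, Subtype.range_coe, Set.inter_eq_left.2 hAK]
    exact hA
  have cB : IsCompact (Subtype.val ⁻¹' B : Set K) := by
    rw [Subtype.isCompact_iff, Set.image_preimage_eq_inter_range, Subtype.range_coe, Set.inter_eq_left.2 hBK]
    exact hB
  have := cA.inter_right cB.isClosed
  rw [← Set.preimage_inter, Subtype.isCompact_iff, Set.image_preimage_eq_inter_range, Subtype.range_coe,
    Set.inter_eq_left.2 (Set.inter_subset_left.trans hAK)] at this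
  exact this

lemma RelHaus.separated {K A B : Set X} (h : RelHaus K) (hA : IsCompact A) (hB : IsCompact B)
    (hAK : A ⊆ K) (hBK : B ⊆ K) (hd : Disjoint A B) :
    ∃ P Q : Set X, IsOpen P ∧ IsOpen Q ∧ A ⊆ P ∧ B ⊆ Q ∧ Disjoint P Q := by
  let n : Set (X × X) := {p | ∃ U V : Set X, IsOpen U ∧ IsOpen V ∧ Disjoint U V ∧ p.1 ∈ U ∧ p.2 ∈ V}
  have hn : IsOpen n := isOpen_iff_forall_mem_open.2 fun p ⟨U, V, hU, hV, hd', h1, h2⟩ =>
    ⟨U ×ˢ V, fun q hq => ⟨U, V, hU, hV, hd', hq.1, hq.2⟩, hU.prod hV, h1, h2⟩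
  have hsub : A ×ˢ B ⊆ n := by
    rintro ⟨a, b⟩ ⟨ha, hb⟩
    obtain ⟨U, V, hU, hV, hx, hy, hd'⟩ := h a (hAK ha) b (hBK hb) (fun e => Set.disjoint_left.1 hd ha (e ▸ hb))
    exact ⟨U, V, hU, hV, hd', hx, hy⟩
  obtain ⟨P, Q, hP, hQ, hAP, hBQ, hPQ⟩ := generalized_tube_lemma hA hB hn hsub
  refine ⟨P, Q, hP, hQ, hAP, hBQ, Set.disjoint_left.2 fun x hxP hxQ => ?_⟩
  obtain ⟨U, V, -, -, hd', h1, h2⟩ := hPQ (Set.mk_mem_prod hxP hxQ)
  exact Set.disjoint_left.1 hd' h1 h2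

variable {F : CohTop.Ab X}

lemma exists_glue₂ {W₁ W₂ : Opens X} (t₁ : F.obj.obj (op W₁)) (t₂ : F.obj.obj (op W₂))
    (h : ∀ x (h₁ : x ∈ W₁) (h₂ : x ∈ W₂), gm F x h₁ t₁ = gm F x h₂ t₂) :
    ∃ t : F.obj.obj (op (W₁ ⊔ W₂)),
      (∀ x (hx : x ∈ W₁), gm F x (le_sup_left (b := W₂) hx) t = gm F x hx t₁) ∧
      (∀ x (hx : x ∈ W₂), gm F x (le_sup_right (a := W₁) hx) t = gm F x hx t₂) := by
  let Uf : ULift.{u} Bool → Opens X := fun b => bif b.down then W₁ else W₂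
  let sf : ∀ b, F.obj.obj (op (Uf b)) := fun
    | ⟨true⟩ => t₁
    | ⟨false⟩ => t₂
  have iUV : ∀ b, Uf b ≤ W₁ ⊔ W₂ := fun
    | ⟨true⟩ => le_sup_left
    | ⟨false⟩ => le_sup_right
  have hc : TopCat.Presheaf.IsCompatible (C := AddCommGrpCat.{u}) F.obj Uf sf := by
    rintro ⟨a⟩ ⟨b⟩
    refine sec_ext _ _ fun x hx => ?_
    refine (gm_res F inf_le_left x hx (sf ⟨a⟩)).trans (Eq.trans ?_ (gm_res F inf_le_right x hx (sf ⟨b⟩)).symm)
    cases a <;> cases b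
    · rfl
    · exact (h x hx.2 hx.1).symm
    · exact h x hx.1 hx.2
    · rfl
  obtain ⟨t, ht, -⟩ := TopCat.Sheaf.existsUnique_gluing' (F := F) Uf (W₁ ⊔ W₂) (fun b => homOfLE (iUV b))
    (sup_le (le_iSup Uf ⟨true⟩) (le_iSup Uf ⟨false⟩)) sf hc
  exact ⟨t, fun x hx => (gm_res F (iUV ⟨true⟩) x hx t).symm.trans (congrArg (gm F x hx) (ht ⟨true⟩)),
    fun x hx => (gm_res F (iUV ⟨false⟩) x hx t).symm.trans (congrArg (gm F x hx) (ht ⟨false⟩))⟩

/-- Extension over the union of two compact subsets. -/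
lemma extends_union {K A B : Set X} (hK : RelHaus K) (hA : IsCompact A) (hB : IsCompact B)
    (hAK : A ⊆ K) (hBK : B ⊆ K) {W₁ W₂ : Opens X} (h₁ : A ⊆ W₁) (h₂ : B ⊆ W₂)
    (t₁ : F.obj.obj (op W₁)) (t₂ : F.obj.obj (op W₂))
    (h : ∀ x (hxA : x ∈ A) (hxB : x ∈ B), gm F x (h₁ hxA) t₁ = gm F x (h₂ hxB) t₂) :
    ∃ (W : Opens X) (hW : A ∪ B ⊆ W) (t : F.obj.obj (op W)),
      (∀ x (hx : x ∈ A), gm F x (hW (Or.inl hx)) t = gm F x (h₁ hx) t₁) ∧
      (∀ x (hx : x ∈ B), gm F x (hW (Or.inr hx)) t = gm F x (h₂ hx) t₂) := by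
  let O : Set X := {y : X | ∃ (hy : y ∈ W₁) (hy' : y ∈ W₂), gm F y hy t₁ = gm F y hy' t₂}
  have hO : IsOpen O := isOpen_eqLocus t₁ t₂
  obtain ⟨P, Q, hP, hQ, hAP, hBQ, hPQ⟩ := hK.separated (hA.diff hO) (hB.diff hO)
    (Set.sdiff_subset.trans hAK) (Set.sdiff_subset.trans hBK)
    (Set.disjoint_left.2 fun x hxA hxB => hxA.2 ⟨h₁ hxA.1, h₂ hxB.1, h x hxA.1 hxB.1⟩)
  let V₁ : Opens X := ⟨(W₁ ∩ P) ∪ O, (W₁.2.inter hP).union hO⟩
  let V₂ : Opens X := ⟨(W₂ ∩ Q) ∪ O, (W₂.2.inter hQ).union hO⟩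
  have hV₁ : V₁ ≤ W₁ := fun y hy => hy.elim (fun h => h.1) (fun h => h.fst)
  have hV₂ : V₂ ≤ W₂ := fun y hy => hy.elim (fun h => h.1) (fun h => h.2.fst)
  obtain ⟨t, ht₁, ht₂⟩ := exists_glue₂ ((F.obj.map (homOfLE hV₁).op).hom t₁) ((F.obj.map (homOfLE hV₂).op).hom t₂)
    (fun x hx₁ hx₂ => by
      refine (gm_res F hV₁ x hx₁ t₁).trans (Eq.trans ?_ (gm_res F hV₂ x hx₂ t₂).symm)
      have hxO : x ∈ O := by
        rcases hx₁ with ⟨-, hxP⟩ | hxO
        · rcases hx₂ with ⟨-, hxQ⟩ | hxO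
          · exact absurd hxQ (Set.disjoint_left.1 hPQ hxP)
          · exact hxO
        · exact hxO
      exact hxO.2.2)
  have hA' : ∀ x ∈ A, x ∈ V₁ := fun x hx => (em (x ∈ O)).elim Or.inr fun hn => Or.inl ⟨h₁ hx, hAP ⟨hx, hn⟩⟩
  have hB' : ∀ x ∈ B, x ∈ V₂ := fun x hx => (em (x ∈ O)).elim Or.inr fun hn => Or.inl ⟨h₂ hx, hBQ ⟨hx, hn⟩⟩
  refine ⟨V₁ ⊔ V₂, Set.union_subset (fun x hx => le_sup_left (b := V₂) (hA' x hx))
    (fun x hx => le_sup_right (a := V₁) (hB' x hx)), t, fun x hx => ?_, fun x hx => ?_⟩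
  · exact (ht₁ x (hA' x hx)).trans (gm_res F hV₁ x (hA' x hx) t₁)
  · exact (ht₂ x (hB' x hx)).trans (gm_res F hV₂ x (hB' x hx) t₂)

/-- Locally given families on compact relatively Hausdorff subsets extend. -/
theorem extends_of_isLoc {A : Set X} (hAc : IsCompact A) (hA : RelHaus A)
    (φ : ∀ a : A, CohTop.stalk F a.1) (hφ : IsLoc F φ) : Extends F φ := by
  have := hA.t2Space
  have : CompactSpace A := isCompact_iff_compactSpace.1 hAc
  choose W hW t ht using hφ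
  have hC : ∀ a : A, ∃ C : Set A, C ∈ nhds a ∧ IsClosed C ∧ C ⊆ Subtype.val ⁻¹' (W a : Set X) := fun a =>
    exists_mem_nhds_isClosed_subset ((W a).2.preimage continuous_subtype_val |>.mem_nhds (hW a))
  choose C hC hCc hCW using hC
  obtain ⟨s, -, hs⟩ := (isCompact_univ (X := A)).elim_nhds_subcover C fun a _ => hC a
  suffices H : ∀ s : Finset A, ∃ (W' : Opens X) (hW' : ∀ b : A, b ∈ ⋃ a ∈ s, C a → b.1 ∈ W')
      (t' : F.obj.obj (op W')), ∀ b hb, φ b = gm F b.1 (hW' b hb) t' by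
    obtain ⟨W', hW', t', ht'⟩ := H s
    exact ⟨W', fun x hx => hW' ⟨x, hx⟩ (hs trivial), t', fun b => ht' b (hs trivial)⟩
  intro s
  classical
  induction s using Finset.induction with
  | empty => exact ⟨⊥, fun b hb => (by simp at hb), 0, fun b hb => (by simp at hb)⟩
  | insert a s ha ih =>
    obtain ⟨W', hW', t', ht'⟩ := ih
    have hc : ∀ S : Set A, IsClosed S → IsCompact (Subtype.val '' S) := fun S hS =>
      hS.isCompact.image continuous_subtype_val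
    have hsub : ∀ S : Set A, Subtype.val '' S ⊆ A := fun S => by rintro _ ⟨b, -, rfl⟩; exact b.2
    obtain ⟨W'', hW'', t'', e₁, e₂⟩ := extends_union hA (hc _ (hCc a))
      (hc _ (isClosed_biUnion_finset fun b _ => hCc b)) (hsub _) (hsub _)
      (W₁ := W a) (W₂ := W') (by rintro _ ⟨b, hb, rfl⟩; exact hCW a hb)
      (by rintro _ ⟨b, hb, rfl⟩; exact hW' b hb) (t a) t' (fun x hxA hxB => by
        obtain ⟨b, hb, rfl⟩ := hxA
        obtain ⟨b', hb', e⟩ := hxB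
        obtain rfl : b' = b := Subtype.ext e
        exact (ht a b' (hCW a hb)).symm.trans (ht' b' hb'))
    refine ⟨W'', fun b hb => ?_, t'', fun b hb => ?_⟩
    · rw [Finset.set_biUnion_insert] at hb
      exact hb.elim (fun h => hW'' (Or.inl ⟨b, h, rfl⟩)) (fun h => hW'' (Or.inr ⟨b, h, rfl⟩))
    · rw [Finset.set_biUnion_insert] at hb
      rcases hb with h | h
      · exact (ht a b (hCW a h)).trans (e₁ b.1 ⟨b, h, rfl⟩).symm
      · exact (ht' b h).trans (e₂ b.1 ⟨b, h, rfl⟩).symm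

/-- Two extensions agree near the subset. -/
lemma exists_nhds_eq {A : Set X} {W W' : Opens X} (hW : A ⊆ W) (hW' : A ⊆ W') (t : F.obj.obj (op W))
    (t' : F.obj.obj (op W')) (h : ∀ x (hx : x ∈ A), gm F x (hW hx) t = gm F x (hW' hx) t') :
    ∃ (M : Opens X) (h₁ : M ≤ W) (h₂ : M ≤ W'), A ⊆ M ∧
      (F.obj.map (homOfLE h₁).op).hom t = (F.obj.map (homOfLE h₂).op).hom t' :=
  let M : Opens X := ⟨{y | ∃ (hy : y ∈ W) (hy' : y ∈ W'), gm F y hy t = gm F y hy' t'}, isOpen_eqLocus t t'⟩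
  have h₁ : M ≤ W := fun _ hy => hy.fst
  have h₂ : M ≤ W' := fun _ hy => hy.2.fst
  ⟨M, h₁, h₂, fun x hx => ⟨hW hx, hW' hx, h x hx⟩,
    sec_ext _ _ fun y hy => (gm_res F h₁ y hy t).trans (hy.2.2.trans (gm_res F h₂ y hy t').symm)⟩

end Groth.Agent.CompactSub
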