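import Groth.Agent.SiteBase.CompactSub.Extend
import Groth.Agent.SiteBase.Top
import Groth.Agent.BigSiteLib.FppfDesc.LocExact

/-!
# Soft sheaves on compact Hausdorff spaces
-/

set_option autoImplicit false
set_option linter.unusedSectionVars false
set_option backward.isDefEq.respectTransparency false

universe u

open CategoryTheory CategoryTheory.Limits Opposite TopologicalSpace Topology
open Groth.Agent.DescentSS.Germ (gm gm_res)

noncomputable section

namespace Groth.Agent.CompactSub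

variable {X : TopCat.{u}}

/-- Families of germs along closed subsets extend to global sections. -/
def IsSoft (G : CohTop.Ab X) : Prop :=
  ∀ (A : Set X), IsClosed A → ∀ φ : ∀ a : A, CohTop.stalk G a.1, IsLoc G φ →
    ∃ t : G.obj.obj (op ⊤), ∀ a : A, φ a = gm G a.1 (Opens.mem_top _) t

lemma exists_flasque_extension (F : CohTop.Ab X) [hF : TopCat.Sheaf.IsFlasque F] {W : Opens X}
    (t : F.obj.obj (op W)) : ∃ t' : F.obj.obj (op ⊤), ∀ x (hx : x ∈ W), gm F x (Opens.mem_top _) t' = gm F x hx t := by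
  obtain ⟨t', ht'⟩ := (AddCommGrpCat.epi_iff_surjective _).1 (hF.epi (homOfLE (le_top : W ≤ ⊤)).op) t
  exact ⟨t', fun x hx => (gm_res F le_top x hx t').symm.trans (congrArg (gm F x hx) ht')⟩

/-- Flasque sheaves are soft along compact relatively Hausdorff subsets. -/
theorem exists_section_of_isLoc (F : CohTop.Ab X) [TopCat.Sheaf.IsFlasque F] {A : Set X} (hAc : IsCompact A)
    (hA : RelHaus A) (φ : ∀ a : A, CohTop.stalk F a.1) (hφ : IsLoc F φ) :
    ∃ t : F.obj.obj (op ⊤), ∀ a : A, φ a = gm F a.1 (Opens.mem_top _) t := by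
  obtain ⟨W, hW, t, ht⟩ := extends_of_isLoc hAc hA φ hφ
  obtain ⟨t', ht'⟩ := exists_flasque_extension F t
  exact ⟨t', fun a => (ht a).trans (ht' a.1 (hW a.2)).symm⟩

lemma relHaus_of_t2 [T2Space X] (A : Set X) : RelHaus A := fun x _ y _ hxy => by
  obtain ⟨U, V, hU, hV, hx, hy, hd⟩ := t2_separation hxy
  exact ⟨U, V, hU, hV, hx, hy, hd⟩

theorem isSoft_of_flasque [CompactSpace X] [T2Space X] (F : CohTop.Ab X) [TopCat.Sheaf.IsFlasque F] :
    IsSoft F :=
  fun A hA φ hφ => exists_section_of_isLoc F hA.isCompact (relHaus_of_t2 A) φ hφ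

section Pull

variable {Z : TopCat.{u}} {i : Z ⟶ X} (hi : IsEmbedding i)

include hi in
/-- A family of germs on the source gives one on the image. -/
lemma exists_transfer (F : CohTop.Ab X) (A : Set Z)
    (φ : ∀ a : A, CohTop.stalk ((CohTop.pull i).obj F) a.1) (hφ : IsLoc ((CohTop.pull i).obj F) φ) :
    ∃ ψ : ∀ x : (i '' A : Set X), CohTop.stalk F x.1, IsLoc F ψ ∧
      ∀ a : A, (theta i F a.1).hom (ψ ⟨i a.1, Set.mem_image_of_mem i a.2⟩) = φ a := by
  have key : ∀ x : (i '' A : Set X), ∃ v : CohTop.stalk F x.1, ∀ (a : A) (e : i a.1 = x.1),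
      (theta i F a.1).hom (e ▸ v) = φ a := by
    rintro ⟨x, z, hz, rfl⟩
    obtain ⟨v, hv⟩ := (bijective_theta hi.isInducing F z).2 (φ ⟨z, hz⟩)
    refine ⟨v, fun a e => ?_⟩
    obtain ⟨a, ha⟩ := a
    obtain rfl : a = z := hi.injective e
    exact hv
  choose ψ hψ using key
  refine ⟨ψ, fun x => ?_, fun a => hψ ⟨i a.1, Set.mem_image_of_mem i a.2⟩ a rfl⟩
  obtain ⟨_, z, hz, rfl⟩ := x
  obtain ⟨W, hzW, t, ht⟩ := hφ ⟨z, hz⟩
  obtain ⟨U, hzU, t', hUW, ht'⟩ := phi_loc hi.isInducing F t z hzW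
  refine ⟨U, hzU, t', fun b hbU => ?_⟩
  obtain ⟨_, z', hz', rfl⟩ := b
  refine (bijective_theta hi.isInducing F z').1 ((hψ ⟨i z', Set.mem_image_of_mem i hz'⟩ ⟨z', hz'⟩ rfl).trans ?_)
  refine (ht ⟨z', hz'⟩ (hUW z' hbU)).trans ?_
  rw [← theta_phi hi.isInducing F t z' (hUW z' hbU), ht' z' hbU (hUW z' hbU)]

include hi in
/-- Inverse images of flasque sheaves to compact relatively Hausdorff subspaces are soft. -/
theorem isSoft_pull [CompactSpace Z] (hr : RelHaus (Set.range i)) (F : CohTop.Ab X) [TopCat.Sheaf.IsFlasque F] :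
    IsSoft ((CohTop.pull i).obj F) := fun A hA φ hφ => by
  obtain ⟨ψ, hψ, hψφ⟩ := exists_transfer hi F A φ hφ
  obtain ⟨t, ht⟩ := exists_section_of_isLoc F (hA.isCompact.image i.hom.continuous)
    (hr.mono (Set.image_subset_range i A)) ψ hψ
  exact ⟨etaSec F t, fun a => (hψφ a).symm.trans
    ((congrArg (theta i F a.1).hom (ht _)).trans (theta_gm F a.1 (Opens.mem_top _) t))⟩

end Pull

section Exact

variable {E : ShortComplex (CohTop.Ab X)} (hE : E.ShortExact)

/-- The map on stalks. -/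
abbrev stMap {F G : CohTop.Ab X} (f : F ⟶ G) (x : X) : CohTop.stalk F x →+ CohTop.stalk G x :=
  ((ClosedEmb.stalkF x).map f).hom

lemma stMap_gm {F G : CohTop.Ab X} (f : F ⟶ G) {W : Opens X} (x : X) (hx : x ∈ W) (t : F.obj.obj (op W)) :
    stMap f x (gm F x hx t) = gm G x hx ((f.hom.app (op W)).hom t) :=
  TopCat.Presheaf.stalkFunctor_map_germ_apply (C := AddCommGrpCat.{u}) W x hx f.hom t

include hE in
lemma injective_stMap_f (x : X) : Function.Injective (stMap E.f x) := by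
  have := hE.mono_f
  have : Mono E.f.hom := (inferInstanceAs (Mono ((sheafToPresheaf _ _).map E.f)))
  exact TopCat.Presheaf.stalkFunctor_map_injective_of_app_injective (C := AddCommGrpCat.{u})
    (fun U => (AddCommGrpCat.mono_iff_injective _).1 (inferInstanceAs (Mono (E.f.hom.app (op U))))) x

include hE in
lemma exists_ker_local {W : Opens X} (d : E.X₂.obj.obj (op W)) (x : X) (hx : x ∈ W)
    (h : gm E.X₃ x hx ((E.g.hom.app (op W)).hom d) = 0) :
    ∃ (M : Opens X) (hM : M ≤ W) (_ : x ∈ M) (c : E.X₁.obj.obj (op M)),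
      (E.f.hom.app (op M)).hom c = (E.X₂.obj.map (homOfLE hM).op).hom d := by
  obtain ⟨M, hxM, hMW, -, hM⟩ := gm_eq_mem x hx hx ((E.g.hom.app (op W)).hom d) 0
    (h.trans (map_zero (TopCat.Presheaf.germ (C := AddCommGrpCat.{u}) (X := X) E.X₃.obj W x hx).hom).symm)
  have h0 : (E.g.hom.app (op M)).hom ((E.X₂.obj.map (homOfLE hMW).op).hom d) = 0 := sec_ext _ _ fun y hy => by
    refine (congrArg (gm E.X₃ y hy) (ConcreteCategory.congr_hom (E.g.hom.naturality (homOfLE hMW).op) d)).trans ?_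
    refine (gm_res E.X₃ hMW y hy _).trans ((hM y (hMW hy) (hMW hy) hy).trans ?_)
    exact (map_zero (TopCat.Presheaf.germ (C := AddCommGrpCat.{u}) (X := X) E.X₃.obj W y (hMW hy)).hom).trans
      (map_zero (TopCat.Presheaf.germ (C := AddCommGrpCat.{u}) (X := X) E.X₃.obj M y hy).hom).symm
  obtain ⟨N, i, ⟨c, hc⟩, hxN⟩ := (BigSiteLib.FppfDesc.locally_boundary hE.exact _ h0) x hxM
  exact ⟨N, i.le.trans hMW, hxN, c, hc.trans
    (ConcreteCategory.congr_hom (E.X₂.obj.map_comp (homOfLE hMW).op i.op) d).symm⟩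

include hE in
lemma exists_local_lift {W : Opens X} (t : E.X₃.obj.obj (op W)) (x : X) (hx : x ∈ W) :
    ∃ (M : Opens X) (hM : M ≤ W) (_ : x ∈ M) (s : E.X₂.obj.obj (op M)),
      (E.g.hom.app (op M)).hom s = (E.X₃.obj.map (homOfLE hM).op).hom t := by
  have := hE.epi_g
  have := (Sheaf.isLocallySurjective_iff_epi' AddCommGrpCat.{u} E.g).2 inferInstance
  obtain ⟨M, i, ⟨s, hs⟩, hxM⟩ := (Presheaf.imageSieve_mem (Opens.grothendieckTopology X) E.g.hom t) x hx
  exact ⟨M, i.le, hxM, s, hs⟩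

variable [CompactSpace X] [T2Space X] (h₁ : IsSoft E.X₁)

include hE h₁ in
/-- Families of germs along closed subsets lift through an epimorphism with soft kernel. -/
theorem exists_lift {A : Set X} (hA : IsClosed A) (φ : ∀ a : A, CohTop.stalk E.X₃ a.1) (hφ : IsLoc E.X₃ φ) :
    ∃ (W : Opens X) (hW : A ⊆ W) (t : E.X₂.obj.obj (op W)),
      ∀ a : A, stMap E.g a.1 (gm E.X₂ a.1 (hW a.2) t) = φ a := by
  classical
  have hl : ∀ a : A, ∃ (M : Opens X) (_ : a.1 ∈ M) (s : E.X₂.obj.obj (op M)),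
      ∀ (b : A) (hb : b.1 ∈ M), stMap E.g b.1 (gm E.X₂ b.1 hb s) = φ b := fun a => by
    obtain ⟨W, haW, t, ht⟩ := hφ a
    obtain ⟨M, hM, haM, s, hs⟩ := exists_local_lift hE t a.1 haW
    refine ⟨M, haM, s, fun b hb => (stMap_gm E.g b.1 hb s).trans ?_⟩
    exact (congrArg (gm E.X₃ b.1 hb) hs).trans ((gm_res E.X₃ hM b.1 hb t).trans (ht b (hM hb)).symm)
  choose M hM s hs using hl
  choose C hC hCc hCM using fun a : A => exists_mem_nhds_isClosed_subset ((M a).2.mem_nhds (hM a))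
  obtain ⟨fs, hfs⟩ : ∃ fs : Finset A, A ⊆ ⋃ a ∈ fs, C a := by
    obtain ⟨fs, hfs⟩ := hA.isCompact.elim_nhds_subcover' (fun a ha => C ⟨a, ha⟩) (fun a ha => hC ⟨a, ha⟩)
    exact ⟨fs, hfs⟩
  suffices H : ∀ fs : Finset A, ∃ (W : Opens X) (hW : A ∩ ⋃ a ∈ fs, C a ⊆ W) (t : E.X₂.obj.obj (op W)),
      ∀ (b : A) (hb : b.1 ∈ ⋃ a ∈ fs, C a), stMap E.g b.1 (gm E.X₂ b.1 (hW ⟨b.2, hb⟩) t) = φ b by
    obtain ⟨W, hW, t, ht⟩ := H fs
    exact ⟨W, fun x hx => hW ⟨hx, hfs hx⟩, t, fun a => ht a (hfs a.2)⟩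
  intro fs
  induction fs using Finset.induction with
  | empty => exact ⟨⊥, fun x hx => (by simp at hx), 0, fun b hb => (by simp at hb)⟩
  | insert a fs ha ih =>
    obtain ⟨W, hW, t, ht⟩ := ih
    let S : Set X := A ∩ C a
    let T : Set X := A ∩ ⋃ b ∈ fs, C b
    have hS : IsClosed S := hA.inter (hCc a)
    have hT : IsClosed T := hA.inter (isClosed_biUnion_finset fun b _ => hCc b)
    have hSM : S ⊆ M a := fun x hx => hCM a hx.2
    let W₀ : Opens X := M a ⊓ W
    let d : E.X₂.obj.obj (op W₀) := (E.X₂.obj.map (homOfLE inf_le_left).op).hom (s a) -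
      (E.X₂.obj.map (homOfLE inf_le_right).op).hom t
    have hd : ∀ x (h : x ∈ W₀), gm E.X₂ x h d = gm E.X₂ x h.1 (s a) - gm E.X₂ x h.2 t := fun x h =>
      (map_sub (TopCat.Presheaf.germ (C := AddCommGrpCat.{u}) (X := X) E.X₂.obj W₀ x h).hom _ _).trans
        (congrArg₂ (· - ·) (gm_res _ inf_le_left x h _) (gm_res _ inf_le_right x h _))
    have hmem : ∀ b : (S ∩ T : Set X), b.1 ∈ W₀ := fun b => ⟨hSM b.2.1, hW b.2.2⟩
    have hd0 : ∀ b : (S ∩ T : Set X), gm E.X₃ b.1 (hmem b) ((E.g.hom.app (op W₀)).hom d) = 0 := fun b => by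
      rw [← stMap_gm, hd, map_sub, hs a ⟨b.1, b.2.1.1⟩, ht ⟨b.1, b.2.1.1⟩ b.2.2.2, sub_self]
    have hker : ∀ b : (S ∩ T : Set X), ∃ v, stMap E.f b.1 v = gm E.X₂ b.1 (hmem b) d := fun b => by
      obtain ⟨N, hN, hbN, c, hc⟩ := exists_ker_local hE d b.1 (hmem b) (hd0 b)
      exact ⟨gm E.X₁ b.1 hbN c, (stMap_gm E.f b.1 hbN c).trans
        ((congrArg (gm E.X₂ b.1 hbN) hc).trans (gm_res _ hN b.1 hbN d))⟩
    choose δ hδ using hker
    obtain ⟨e, he⟩ := h₁ (S ∩ T) (hS.inter hT) δ fun b => by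
      obtain ⟨N, hN, hbN, c, hc⟩ := exists_ker_local hE d b.1 (hmem b) (hd0 b)
      refine ⟨N, hbN, c, fun b' hb' => injective_stMap_f hE b'.1 ?_⟩
      exact (hδ b').trans (((gm_res _ hN b'.1 hb' d).symm.trans (congrArg (gm E.X₂ b'.1 hb') hc.symm)).trans
        (stMap_gm E.f b'.1 hb' c).symm)
    let s' : E.X₂.obj.obj (op (M a)) := s a - (E.f.hom.app (op (M a))).hom ((E.X₁.obj.map (homOfLE le_top).op).hom e)
    have hs' : ∀ x (h : x ∈ M a), gm E.X₂ x h s' = gm E.X₂ x h (s a) - stMap E.f x (gm E.X₁ x (Opens.mem_top _) e) := fun x h => by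
      refine (map_sub (TopCat.Presheaf.germ (C := AddCommGrpCat.{u}) (X := X) E.X₂.obj (M a) x h).hom _ _).trans ?_
      refine congrArg (gm E.X₂ x h (s a) - ·) ?_
      exact (stMap_gm E.f x h _).symm.trans (congrArg (stMap E.f x) (gm_res _ le_top x h e))
    obtain ⟨W', hW', t', e₁, e₂⟩ := extends_union (relHaus_of_t2 (Set.univ : Set X)) hS.isCompact hT.isCompact
      (Set.subset_univ _) (Set.subset_univ _) hSM hW s' t (fun x hxS hxT => by
        rw [hs', ← he ⟨x, hxS, hxT⟩, hδ ⟨x, hxS, hxT⟩, hd, sub_sub_cancel])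
    have hgf : ∀ x v, stMap E.g x (stMap E.f x v) = 0 := fun x v => by
      refine (ConcreteCategory.congr_hom ((ClosedEmb.stalkF x).map_comp E.f E.g).symm v).trans ?_
      rw [E.zero, Functor.map_zero]
      rfl
    refine ⟨W', fun x hx => hW' ?_, t', fun b hb => ?_⟩
    · have h2 := hx.2
      rw [Finset.set_biUnion_insert] at h2
      exact h2.elim (fun h => Or.inl ⟨hx.1, h⟩) (fun h => Or.inr ⟨hx.1, h⟩)
    · rw [Finset.set_biUnion_insert] at hb
      rcases hb with h | h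
      · refine (congrArg (stMap E.g b.1) ((e₁ b.1 ⟨b.2, h⟩).trans (hs' b.1 _))).trans ?_
        rw [map_sub, hgf, sub_zero]
        exact hs a b (hSM ⟨b.2, h⟩)
      · exact (congrArg (stMap E.g b.1) (e₂ b.1 ⟨b.2, h⟩)).trans (ht b h)

include hE h₁ in
/-- Global sections lift. -/
theorem sections_surjective : Function.Surjective (E.g.hom.app (op ⊤)).hom := by
  intro c
  obtain ⟨W, hW, t, ht⟩ := exists_lift hE h₁ isClosed_univ (fun a => gm E.X₃ a.1 (Opens.mem_top _) c)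
    (fun a => ⟨⊤, Opens.mem_top _, c, fun b _ => rfl⟩)
  refine ⟨(E.X₂.obj.map (homOfLE (fun x _ => hW trivial : (⊤ : Opens X) ≤ W)).op).hom t, sec_ext _ _ fun x hx => ?_⟩
  exact (stMap_gm E.g x hx _).symm.trans ((congrArg (stMap E.g x) (gm_res _ _ x hx t)).trans (ht ⟨x, trivial⟩))

include hE h₁ in
/-- Quotients of soft sheaves by soft sheaves are soft. -/
theorem isSoft_X₃ (h₂ : IsSoft E.X₂) : IsSoft E.X₃ := fun A hA φ hφ => by
  obtain ⟨W, hW, t, ht⟩ := exists_lift hE h₁ hA φ hφ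
  obtain ⟨t', ht'⟩ := h₂ A hA (fun a => gm E.X₂ a.1 (hW a.2) t) (fun a => ⟨W, hW a.2, t, fun b _ => rfl⟩)
  exact ⟨(E.g.hom.app (op ⊤)).hom t', fun a =>
    (ht a).symm.trans ((congrArg (stMap E.g a.1) (ht' a)).trans (stMap_gm E.g a.1 (Opens.mem_top _) t'))⟩

end Exact

/-- Soft sheaves on compact Hausdorff spaces are acyclic. -/
theorem subsingleton_H_of_isSoft [CompactSpace X] [T2Space X] (G : CohTop.Ab X) (hG : IsSoft G) (n : ℕ) :
    Subsingleton (CohTop.H G (n + 1)) := by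
  refine SiteBase.subsingleton_H_of_HU_terminal isTerminalTop G (n + 1) ?_
  refine SiteBase.subsingleton_HU_of_class (J := Opens.grothendieckTopology X) (fun G => IsSoft G)
    (fun V => V = ⊤) ?_ ?_ hG rfl n
  · intro E hE h1 h2
    have := h2
    have := SiteBase.isFlasque_of_injective E.X₂
    exact isSoft_X₃ hE h1 (isSoft_of_flasque E.X₂)
  · rintro E hE h1 - U rfl
    exact sections_surjective hE h1

end Groth.Agent.CompactSub
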