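import Groth.Agent.SiteBase.CompactSub.Colim
import Mathlib.Topology.Maps.Proper.Basic

/-!
# Stalks of direct images along proper separated maps
-/

set_option autoImplicit false
set_option linter.unusedSectionVars false
set_option backward.isDefEq.respectTransparency false

universe u

open CategoryTheory CategoryTheory.Limits Opposite TopologicalSpace Topology
open Groth.Agent.DescentSS.Germ (gm gm_res)

noncomputable section

namespace Groth.Agent.CompactSub

section Exact

variable {X : TopCat.{u}} (x : X)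

lemma preservesHomology_stalkF : (ClosedEmb.stalkF x).PreservesHomology := by
  rw [show (ClosedEmb.stalkF x).PreservesHomology ↔ ∀ S : ShortComplex (CohTop.Ab X), S.Exact →
    (S.map (ClosedEmb.stalkF x)).Exact from (ClosedEmb.stalkF x).exact_tfae.out 2 1]
  exact fun S hS => (TopCat.Sheaf.exact_iff_stalkFunctor_map_exact S).1 hS x

instance preservesFiniteLimits_stalkF : PreservesFiniteLimits (ClosedEmb.stalkF x) :=
  haveI := preservesHomology_stalkF x
  (ClosedEmb.stalkF x).preservesFiniteLimits_of_preservesHomology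

instance preservesFiniteColimits_stalkF : PreservesFiniteColimits (ClosedEmb.stalkF x) :=
  haveI := preservesHomology_stalkF x
  (ClosedEmb.stalkF x).preservesFiniteColimits_of_preservesHomology

end Exact

variable {X Y Z : TopCat.{u}}

/-- The cocone of neighbourhoods of a point onto global sections, for a map constant at the point. -/
def constCocone (g : Z ⟶ Y) (y : Y) (hg : ∀ z, g z = y) (G : CohTop.Ab Z) :
    Cocone ((OpenNhds.inclusion y).op ⋙ ((CohTop.push g).obj G).obj) where
  pt := (DescentSS.secFun Z ⊤).obj G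
  ι :=
    { app := fun V => G.obj.map (homOfLE (fun z _ => by
        show g z ∈ V.unop.1
        rw [hg z]
        exact V.unop.2 :
        (⊤ : Opens Z) ≤ (Opens.map g).obj V.unop.1)).op
      naturality := fun V W k => by
        show G.obj.map _ ≫ G.obj.map _ = G.obj.map _ ≫ 𝟙 _
        rw [Category.comp_id, ← G.obj.map_comp]
        rfl }

/-- Stalks of constant direct images map to global sections. -/
def constStalk (g : Z ⟶ Y) (y : Y) (hg : ∀ z, g z = y) :
    CohTop.push g ⋙ ClosedEmb.stalkF y ⟶ DescentSS.secFun Z ⊤ where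
  app G := colimit.desc _ (constCocone g y hg G)
  naturality G G' φ := colimit.hom_ext fun V => by
    refine (ι_colimMap_assoc (Functor.whiskerLeft (OpenNhds.inclusion y).op ((CohTop.push g).map φ).hom) V _).trans ?_
    refine (congrArg (_ ≫ ·) (colimit.ι_desc (constCocone g y hg G') V)).trans ?_
    refine Eq.trans ?_ (colimit.ι_desc_assoc (constCocone g y hg G) V _).symm
    exact (φ.hom.naturality _).symm

variable (i : Z ⟶ X) (f : X ⟶ Y) (y : Y) (hy : ∀ z, f (i z) = y)

/-- The base change map to the fibre. -/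
def bcFibre : CohTop.push f ⋙ ClosedEmb.stalkF y ⟶ pullSec i :=
  Functor.whiskerRight (TopCat.Sheaf.pullbackPushforwardAdjunction AddCommGrpCat.{u} i).unit
      (CohTop.push f ⋙ ClosedEmb.stalkF y) ≫
    Functor.whiskerLeft (CohTop.pull i) (constStalk (i ≫ f) y hy)

lemma phi_bcFibre (hi : IsEmbedding i) (F : CohTop.Ab X) {V : Opens Y} (hV : y ∈ V)
    (t : F.obj.obj (op ((Opens.map f).obj V))) (z : Z) :
    phi hi.isInducing F (((bcFibre i f y hy).app F).hom (gm ((CohTop.push f).obj F) y hV t)) z (Opens.mem_top z) =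
      gm F (i z) (show f (i z) ∈ V from (hy z).symm ▸ hV) t := by
  have h1 := stMap_gm ((CohTop.push f).map
    ((TopCat.Sheaf.pullbackPushforwardAdjunction AddCommGrpCat.{u} i).unit.app F)) y hV t
  refine (congrArg (fun s => phi hi.isInducing F s z (Opens.mem_top z))
    ((congrArg ((constStalk (i ≫ f) y hy).app ((CohTop.pull i).obj F)).hom h1).trans
      (ConcreteCategory.congr_hom (colimit.ι_desc (constCocone (i ≫ f) y hy ((CohTop.pull i).obj F)) (op ⟨V, hV⟩))
        (etaSec F t)))).trans ?_
  exact (phi_res hi.isInducing F _ (etaSec F t) z (Opens.mem_top z)).trans (phi_etaSec hi.isInducing F t z _)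

variable (hclosed : IsClosedMap f) (hfib : f ⁻¹' {y} ⊆ Set.range i)

include hclosed in
lemma exists_nhd_fibre {U : Opens X} (hU : f ⁻¹' {y} ⊆ U) :
    ∃ V : Opens Y, y ∈ V ∧ (Opens.map f).obj V ≤ U :=
  ⟨⟨(f '' (U : Set X)ᶜ)ᶜ, (hclosed _ U.2.isClosed_compl).isOpen_compl⟩,
    fun ⟨x, hx, e⟩ => hx (hU e), fun x hx => by_contra fun hxU => hx ⟨x, hxU, rfl⟩⟩

include hclosed hfib in
theorem isIso_bcFibre (hi : IsEmbedding i) (hc : IsCompact (f ⁻¹' {y})) (hr : RelHaus (f ⁻¹' {y})) :
    IsIso (bcFibre i f y hy) := by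
  have : ∀ F, IsIso ((bcFibre i f y hy).app F) := fun F => by
    rw [ConcreteCategory.isIso_iff_bijective]
    constructor
    · intro a b hab
      obtain ⟨V, hV, t, rfl⟩ := TopCat.Presheaf.exists_germ_eq (C := AddCommGrpCat.{u}) (X := Y)
        ((CohTop.push f).obj F).obj a
      obtain ⟨V', hV', t', rfl⟩ := TopCat.Presheaf.exists_germ_eq (C := AddCommGrpCat.{u}) (X := Y)
        ((CohTop.push f).obj F).obj b
      obtain ⟨M, h₁, h₂, hAM, e⟩ := exists_nhds_eq (F := F) (A := f ⁻¹' {y})
        (W := (Opens.map f).obj V) (W' := (Opens.map f).obj V')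
        (fun x hx => show f x ∈ V from (show f x = y from hx).symm ▸ hV)
        (fun x hx => show f x ∈ V' from (show f x = y from hx).symm ▸ hV') t t' fun x hx => by
          obtain ⟨z, rfl⟩ := hfib hx
          exact (phi_bcFibre i f y hy hi F hV t z).symm.trans
            ((congrArg (fun s => phi hi.isInducing F s z (Opens.mem_top z)) hab).trans
              (phi_bcFibre i f y hy hi F hV' t' z))
      obtain ⟨V'', hy'', hle⟩ := exists_nhd_fibre f y hclosed hAM
      let N : Opens Y := V'' ⊓ (V ⊓ V')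
      have hN₁ : N ≤ V := inf_le_right.trans inf_le_left
      have hN₂ : N ≤ V' := inf_le_right.trans inf_le_right
      have hyN : y ∈ N := ⟨hy'', hV, hV'⟩
      have hNM : (Opens.map f).obj N ≤ M := fun x hx => hle (show f x ∈ V'' from hx.1)
      refine (gm_res ((CohTop.push f).obj F) hN₁ y hyN t).symm.trans ?_
      refine Eq.trans ?_ (gm_res ((CohTop.push f).obj F) hN₂ y hyN t')
      refine congrArg (gm ((CohTop.push f).obj F) y hyN) ?_
      have e' := congrArg (F.obj.map (homOfLE hNM).op).hom e
      refine Eq.trans ?_ (e'.trans ?_)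
      · exact ConcreteCategory.congr_hom (F.obj.map_comp (homOfLE h₁).op (homOfLE hNM).op) t
      · exact (ConcreteCategory.congr_hom (F.obj.map_comp (homOfLE h₂).op (homOfLE hNM).op) t').symm
    · intro s
      have key : ∀ x : (f ⁻¹' {y} : Set X), ∃ v : CohTop.stalk F x.1, ∀ (z : Z) (e : i z = x.1),
          e ▸ phi hi.isInducing F s z (Opens.mem_top z) = v := by
        rintro ⟨x, hx⟩
        obtain ⟨z, rfl⟩ := hfib hx
        refine ⟨phi hi.isInducing F s z (Opens.mem_top z), fun z' e => ?_⟩
        obtain rfl : z' = z := hi.injective e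
        rfl
      choose ψ hψ using key
      obtain ⟨W, hW, t, ht⟩ := extends_of_isLoc hc hr ψ fun a => by
        obtain ⟨_, hx⟩ := a
        obtain ⟨z, rfl⟩ := hfib hx
        obtain ⟨U, hzU, t, -, ht⟩ := phi_loc hi.isInducing F s z (Opens.mem_top z)
        refine ⟨U, hzU, t, fun b hb => ?_⟩
        obtain ⟨_, hb'⟩ := b
        obtain ⟨z', rfl⟩ := hfib hb'
        exact (hψ ⟨i z', hb'⟩ z' rfl).symm.trans (ht z' hb (Opens.mem_top z'))
      obtain ⟨V, hV, hle⟩ := exists_nhd_fibre f y hclosed hW
      refine ⟨gm ((CohTop.push f).obj F) y hV ((F.obj.map (homOfLE hle).op).hom t),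
        phi_ext hi.isInducing F _ _ fun z _ => ?_⟩
      refine (phi_bcFibre i f y hy hi F hV _ z).trans ((gm_res F hle (i z) _ t).trans ?_)
      exact (ht ⟨i z, hy z⟩).symm.trans (hψ ⟨i z, hy z⟩ z rfl).symm
  exact NatIso.isIso_of_isIso_app _

include hclosed hfib in
/-- Proper base change for stalks. -/
theorem nonempty_stalk_Rpush [CompactSpace Z] (hi : IsEmbedding i) (hc : IsCompact (f ⁻¹' {y}))
    (hr : RelHaus (f ⁻¹' {y})) (hy : ∀ z, f (i z) = y) (F : CohTop.Ab X) (q : ℕ) :
    Nonempty (CohTop.stalk ((CohTop.Rpush f q).obj F) y ≅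
      AddCommGrpCat.of (CohTop.H ((CohTop.pull i).obj F) q)) := by
  have := isIso_bcFibre i f y hy hclosed hfib hi hc hr
  have hr' : RelHaus (Set.range i) := hr.mono (by rintro _ ⟨z, rfl⟩; exact hy z)
  exact ⟨((SiteBase.rightDerivedCompIso (CohTop.push f) (ClosedEmb.stalkF y) q).app F).symm ≪≫
    (SiteBase.rightDerivedCongr (asIso (bcFibre i f y hy)) q).app F ≪≫
    (nonempty_rightDerived_pullSec i hi hr' F q).some⟩

end Groth.Agent.CompactSub
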