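import Groth.Agent.SiteBase.CompactSub.ProperStalk
import Mathlib.Topology.LocalAtTarget

/-!
# Proper base change for topological spaces
-/

set_option autoImplicit false
set_option linter.unusedSectionVars false
set_option backward.isDefEq.respectTransparency false

universe u

open CategoryTheory CategoryTheory.Limits Opposite TopologicalSpace Topology
open Groth.Agent.DescentSS.Germ (gm gm_res)

noncomputable section

namespace Groth.Agent.CompactSub

section Theta

variable {Z X : TopCat.{u}}

open scoped Classical in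
lemma theta_comp_pullStalkIso (f : Z ⟶ X) (F : CohTop.Ab X) (z : Z) :
    theta f F z ≫ (ClosedEmb.pullStalkIso f z).hom.app F = 𝟙 _ := by
  refine TopCat.Presheaf.stalk_hom_ext _ fun V hV => ?_
  have h := congrArg (fun t => t.hom.app (op V)) (Adjunction.unit_leftAdjointUniq_hom_app
    ((TopCat.Sheaf.pullbackPushforwardAdjunction AddCommGrpCat.{u} f).comp (stalkSkyscraperSheafAdjunction z))
    ((stalkSkyscraperSheafAdjunction (f z)).ofNatIsoRight (ClosedEmb.skyscraperPushforwardIso f z).symm) F)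
  change _ = _ at h
  have hV' : z ∈ (Opens.map f).obj V := hV
  rw [show ((((TopCat.Sheaf.pullbackPushforwardAdjunction AddCommGrpCat.{u} f).comp (stalkSkyscraperSheafAdjunction z))).leftAdjointUniq
    ((stalkSkyscraperSheafAdjunction (f z)).ofNatIsoRight (ClosedEmb.skyscraperPushforwardIso f z).symm)).hom.app F = (ClosedEmb.pullStalkIso f z).hom.app F from rfl] at h
  generalize (ClosedEmb.pullStalkIso f z).hom.app F = e at h ⊢
  simp [stalkSkyscraperSheafAdjunction, Adjunction.ofNatIsoRight, Adjunction.comp_unit_app,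
    StalkSkyscraperPresheafAdjunctionAuxs.unit, StalkSkyscraperPresheafAdjunctionAuxs.toSkyscraperPresheaf, skyscraperSheafFunctor,
    skyscraperPresheafFunctor, SkyscraperPresheafFunctor.map',
    ClosedEmb.skyscraperPushforwardIso, dif_pos hV, dif_pos hV'] at h
  change _ ≫ (dite _ _ _ ≫ dite _ _ _) = dite _ _ _ ≫ 𝟙 _ at h
  simp only [unop_op, dif_pos hV, dif_pos hV', Category.comp_id, Category.assoc, eqToHom_trans_assoc, eqToHom_refl, Category.id_comp] at h
  have h2 : ((TopCat.Sheaf.pullbackPushforwardAdjunction AddCommGrpCat.{u} f).unit.app F).hom.app (op V) ≫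
      TopCat.Presheaf.germ (C := AddCommGrpCat.{u}) (X := Z) ((CohTop.pull f).obj F).obj ((Opens.map f).obj V) z hV' ≫ e =
        TopCat.Presheaf.germ (C := AddCommGrpCat.{u}) (X := X) F.obj V (f z) hV := by
    simp [dif_pos (show (TopCat.Hom.hom f) z ∈ V from hV)] at h
    rw [← cancel_mono (eqToHom (if_pos hV).symm : _ ⟶ (skyscraperPresheaf (f z) (CohTop.stalk F (f z))).obj (op V))]
    simp only [Category.assoc]
    exact h
  refine Eq.trans ?_ (h2.trans (Category.comp_id _).symm)
  refine ConcreteCategory.hom_ext _ _ fun t => ?_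
  exact congrArg e.hom (theta_gm (i := f) F z hV t)

lemma isIso_theta (f : Z ⟶ X) (F : CohTop.Ab X) (z : Z) : IsIso (theta f F z) := by
  have : IsIso (theta f F z ≫ (ClosedEmb.pullStalkIso f z).hom.app F) := by
    rw [theta_comp_pullStalkIso]; exact IsIso.id _
  exact IsIso.of_isIso_comp_right (theta f F z) ((ClosedEmb.pullStalkIso f z).hom.app F)

lemma bijective_theta' (f : Z ⟶ X) (F : CohTop.Ab X) (z : Z) : Function.Bijective (theta f F z).hom :=
  haveI := isIso_theta f F z
  (ConcreteCategory.isIso_iff_bijective _).1 inferInstance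

end Theta

variable {X Y X' Y' : TopCat.{u}} {f : X ⟶ Y} {g : Y' ⟶ Y} {f' : X' ⟶ Y'} {g' : X' ⟶ X}
  (sq : IsPullback g' f' f g)

section Fibre

variable (y' : Y')

/-- The inclusion of the fibre of the base change. -/
abbrev fibI : TopCat.of (f' ⁻¹' {y'} : Set X') ⟶ X' := incl _

include sq in
lemma mem_fib (z : (f' ⁻¹' {y'} : Set X')) : (fibI (f' := f') y' ≫ g') z ∈ f ⁻¹' {g y'} := by
  show f (g' z.1) = g y'
  exact (ConcreteCategory.congr_hom sq.w z.1).trans (congrArg g z.2)

include sq in
theorem fibre_facts (hc : IsCompact (f ⁻¹' {g y'})) :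
    IsEmbedding (fibI (f' := f') y' ≫ g') ∧ f ⁻¹' {g y'} ⊆ Set.range (fibI (f' := f') y' ≫ g') ∧
      CompactSpace (f' ⁻¹' {y'} : Set X') := by
  let A : Set X := f ⁻¹' {g y'}
  let c : TopCat.of A ⟶ Y' := TopCat.ofHom ⟨fun _ => y', continuous_const⟩
  have hw : incl A ≫ f = c ≫ g := TopCat.hom_ext (ContinuousMap.ext fun a => a.2)
  let h₀ : TopCat.of A ⟶ X' := sq.lift (incl A) c hw
  have h1 : h₀ ≫ g' = incl A := sq.lift_fst _ _ _
  have h2 : ∀ a, f' (h₀ a) = y' := fun a => ConcreteCategory.congr_hom (sq.lift_snd (incl A) c hw) a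
  let h : TopCat.of A ⟶ TopCat.of (f' ⁻¹' {y'} : Set X') :=
    TopCat.ofHom ⟨fun a => ⟨h₀ a, h2 a⟩, Continuous.subtype_mk h₀.hom.continuous _⟩
  let e : TopCat.of (f' ⁻¹' {y'} : Set X') ⟶ TopCat.of A :=
    TopCat.ofHom ⟨fun z => ⟨(fibI (f' := f') y' ≫ g') z, mem_fib sq y' z⟩,
      Continuous.subtype_mk (fibI (f' := f') y' ≫ g').hom.continuous _⟩
  have he : e ≫ h₀ = fibI (f' := f') y' := by
    refine sq.hom_ext ?_ ?_
    · rw [Category.assoc, h1]; rfl
    · exact TopCat.hom_ext (ContinuousMap.ext fun z => (h2 (e z)).trans z.2.symm)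
  have hl : Function.LeftInverse h e := fun z => Subtype.ext (ConcreteCategory.congr_hom he z)
  have hr : Function.RightInverse h e := fun a => Subtype.ext (ConcreteCategory.congr_hom h1 a)
  let E : (f' ⁻¹' {y'} : Set X') ≃ₜ A :=
    ⟨⟨e, h, hl, hr⟩, e.hom.continuous, h.hom.continuous⟩
  refine ⟨(isEmbedding_incl A).comp E.isEmbedding, fun x hx => ⟨E.symm ⟨x, hx⟩, ?_⟩, ?_⟩
  · exact congrArg Subtype.val (E.apply_symm_apply ⟨x, hx⟩)
  · have : CompactSpace A := isCompact_iff_compactSpace.1 hc
    exact E.symm.compactSpace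

end Fibre

include sq in
theorem isProperMap_of_isPullback (hf : IsProperMap f) : IsProperMap f' := by
  let Γ : Set (Y × Y') := {p | p.1 = g p.2}
  have h := (hf.prodMap (isProperMap_id (X := Y'))).restrictPreimage Γ
  let eΓ : Γ ≃ₜ Y' :=
    ⟨⟨fun p => p.1.2, fun y => ⟨(g y, y), rfl⟩, fun p => Subtype.ext (Prod.ext p.2.symm rfl), fun _ => rfl⟩,
      continuous_snd.comp continuous_subtype_val,
      (g.hom.continuous.prodMk continuous_id).subtype_mk _⟩
  let P : TopCat.{u} := TopCat.of (Prod.map f (id : Y' → Y') ⁻¹' Γ)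
  let p₁ : P ⟶ X := TopCat.ofHom ⟨fun p => p.1.1, continuous_fst.comp continuous_subtype_val⟩
  let p₂ : P ⟶ Y' := TopCat.ofHom ⟨fun p => p.1.2, continuous_snd.comp continuous_subtype_val⟩
  have hw : p₁ ≫ f = p₂ ≫ g := TopCat.hom_ext (ContinuousMap.ext fun p => p.2)
  let l : P ⟶ X' := sq.lift p₁ p₂ hw
  let k : X' ⟶ P := TopCat.ofHom ⟨fun x => ⟨(g' x, f' x), ConcreteCategory.congr_hom sq.w x⟩,
    (g'.hom.continuous.prodMk f'.hom.continuous).subtype_mk _⟩
  have hkl : k ≫ l = 𝟙 X' := sq.hom_ext
    ((Category.assoc _ _ _).trans ((congrArg (k ≫ ·) (sq.lift_fst p₁ p₂ hw)).trans (Category.id_comp _).symm))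
    ((Category.assoc _ _ _).trans ((congrArg (k ≫ ·) (sq.lift_snd p₁ p₂ hw)).trans (Category.id_comp _).symm))
  let E : X' ≃ₜ P := ⟨⟨k, l, fun x => ConcreteCategory.congr_hom hkl x, fun p => Subtype.ext (Prod.ext
    (ConcreteCategory.congr_hom (sq.lift_fst p₁ p₂ hw) p) (ConcreteCategory.congr_hom (sq.lift_snd p₁ p₂ hw) p))⟩,
    k.hom.continuous, l.hom.continuous⟩
  exact eΓ.isProperMap.comp (h.comp E.isProperMap)

lemma swap_le (V : Opens Y) :
    (Opens.map f').obj ((Opens.map g).obj V) ≤ (Opens.map g').obj ((Opens.map f).obj V) ∨ ¬ f' ≫ g = g' ≫ f := by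
  by_cases h : f' ≫ g = g' ≫ f
  · refine Or.inl fun x hx => ?_
    show (g' ≫ f) x ∈ V
    rw [← h]
    exact hx
  · exact Or.inr h

include sq in
lemma swap_le' (V : Opens Y) :
    (Opens.map f').obj ((Opens.map g).obj V) ≤ (Opens.map g').obj ((Opens.map f).obj V) :=
  (swap_le V).resolve_right (not_not.2 sq.w.symm)

/-- The comparison of the two composites. -/
def swapMap : CohTop.push g' ⋙ CohTop.push f ⟶ CohTop.push f' ⋙ CohTop.push g where
  app G := ⟨{
    app := fun V => G.obj.map (homOfLE (swap_le' sq V.unop)).op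
    naturality := fun V W k => by
      show G.obj.map _ ≫ G.obj.map _ = G.obj.map _ ≫ G.obj.map _
      rw [← G.obj.map_comp, ← G.obj.map_comp]
      rfl }⟩
  naturality G G' φ := CategoryTheory.Sheaf.hom_ext (NatTrans.ext (funext fun V => (φ.hom.naturality _).symm))

/-- The transpose of the base change map. -/
def bcAdj : CohTop.push f ⟶ (CohTop.pull g' ⋙ CohTop.push f') ⋙ CohTop.push g :=
  Functor.whiskerRight (TopCat.Sheaf.pullbackPushforwardAdjunction AddCommGrpCat.{u} g').unit (CohTop.push f) ≫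
    Functor.whiskerLeft (CohTop.pull g') (swapMap sq)

/-- The base change map in degree zero. -/
def bc : CohTop.push f ⋙ CohTop.pull g ⟶ CohTop.pull g' ⋙ CohTop.push f' :=
  Functor.whiskerRight (bcAdj sq) (CohTop.pull g) ≫
    Functor.whiskerLeft (CohTop.pull g' ⋙ CohTop.push f') (TopCat.Sheaf.pullbackPushforwardAdjunction AddCommGrpCat.{u} g).counit

lemma unit_bc (F : CohTop.Ab X) :
    (TopCat.Sheaf.pullbackPushforwardAdjunction AddCommGrpCat.{u} g).unit.app ((CohTop.push f).obj F) ≫
      (CohTop.push g).map ((bc sq).app F) = (bcAdj sq).app F := by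
  let adj : CohTop.pull g ⊣ CohTop.push g := TopCat.Sheaf.pullbackPushforwardAdjunction AddCommGrpCat.{u} g
  show adj.unit.app _ ≫ (CohTop.push g).map ((CohTop.pull g).map ((bcAdj sq).app F) ≫ adj.counit.app _) = _
  rw [Functor.map_comp]
  refine (adj.unit_naturality_assoc _ _).trans ?_
  exact (congrArg (_ ≫ ·) (adj.right_triangle_components _)).trans (Category.comp_id _)

include sq in
/-- Proper base change in degree zero. -/
theorem isIso_bc (hf : IsProperMap f)
    (hs : ∀ x x' : X, f x = f x' → x ≠ x' → ∃ U V : Set X, IsOpen U ∧ IsOpen V ∧ x ∈ U ∧ x' ∈ V ∧ Disjoint U V) :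
    IsIso (bc sq) := by
  have hf' := isProperMap_of_isPullback sq hf
  have hF : ∀ F, IsIso ((bc sq).app F) := fun F => by
    let G : CohTop.Ab X' := (CohTop.pull g').obj F
    suffices H : ∀ y' : Y', IsIso ((ClosedEmb.stalkF y').map ((bc sq).app F)) by
      have : ∀ y' : Y', IsIso ((TopCat.Presheaf.stalkFunctor AddCommGrpCat.{u} y').map ((bc sq).app F).1) := H
      exact TopCat.Presheaf.isIso_of_stalkFunctor_map_iso ((bc sq).app F)
    intro y'
    have hc := hf.isCompact_preimage (isCompact_singleton (x := g y'))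
    have hr : RelHaus (f ⁻¹' {g y'}) := fun x hx x' hx' hne =>
      hs x x' ((show f x = g y' from hx).trans (show f x' = g y' from hx').symm) hne
    obtain ⟨hi, hfib, hcs⟩ := fibre_facts sq y' hc
    let i' := fibI (f' := f') y'
    let i := i' ≫ g'
    have hy : ∀ z, f (i z) = g y' := fun z => mem_fib sq y' z
    have hy' : ∀ z : (f' ⁻¹' {y'} : Set X'), f' (i' z) = y' := fun z => z.2
    have hi' : IsEmbedding i' := isEmbedding_incl _
    have hc' := hf'.isCompact_preimage (isCompact_singleton (x := y'))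
    have hr' : RelHaus (f' ⁻¹' {y'}) := fun x hx x' hx' hne => by
      have hne' : g' x ≠ g' x' := fun e => hne (congrArg Subtype.val
        (hi.injective (a₁ := (⟨x, hx⟩ : (f' ⁻¹' {y'} : Set X'))) (a₂ := ⟨x', hx'⟩) e))
      obtain ⟨U, V, hU, hV, hxU, hxV, hd⟩ := hr _ (mem_fib sq y' ⟨x, hx⟩) _ (mem_fib sq y' ⟨x', hx'⟩) hne'
      exact ⟨_, _, hU.preimage g'.hom.continuous, hV.preimage g'.hom.continuous, hxU, hxV, hd.preimage _⟩
    have b' : Function.Bijective ((bcFibre i' f' y' hy').app G).hom :=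
      haveI := isIso_bcFibre i' f' y' hy' hf'.isClosedMap (fun x hx => ⟨⟨x, hx⟩, rfl⟩) hi' hc' hr'
      (ConcreteCategory.isIso_iff_bijective _).1 (NatIso.isIso_app_of_isIso _ _)
    have b : Function.Bijective ((bcFibre i f (g y') hy).app F).hom :=
      haveI := isIso_bcFibre i f (g y') hy hf.isClosedMap hfib hi hc hr
      (ConcreteCategory.isIso_iff_bijective _).1 (NatIso.isIso_app_of_isIso _ _)
    let a : CohTop.stalk ((CohTop.push f).obj F) (g y') →+ CohTop.stalk ((CohTop.push f').obj G) y' :=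
      (stMap ((bc sq).app F) y').comp (theta g ((CohTop.push f).obj F) y').hom
    have hΨ : ∀ v z, phi hi'.isInducing G (((bcFibre i' f' y' hy').app G).hom (a v)) z (Opens.mem_top z) =
        (theta g' F (i' z)).hom (phi hi.isInducing F (((bcFibre i f (g y') hy).app F).hom v) z (Opens.mem_top z)) := by
      intro v z
      obtain ⟨V, hV, t, rfl⟩ := TopCat.Presheaf.exists_germ_eq (C := AddCommGrpCat.{u}) (X := Y)
        ((CohTop.push f).obj F).obj v
      let u₁ : G.obj.obj (op ((Opens.map f').obj ((Opens.map g).obj V))) :=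
        (G.obj.map (homOfLE (swap_le' sq V)).op).hom (etaSec (i := g') F t)
      have ha : a (gm ((CohTop.push f).obj F) (g y') hV t) = gm ((CohTop.push f').obj G) y' hV u₁ := by
        refine (congrArg (stMap ((bc sq).app F) y') (theta_gm (i := g) ((CohTop.push f).obj F) y' hV t)).trans ?_
        refine (stMap_gm ((bc sq).app F) y' (show y' ∈ (Opens.map g).obj V from hV) _).trans ?_
        exact congrArg (gm ((CohTop.push f').obj G) y' (show y' ∈ (Opens.map g).obj V from hV))
          (ConcreteCategory.congr_hom (congrArg (fun m => m.hom.app (op V)) (unit_bc sq F)) t)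
      refine ((congrArg (fun w => phi hi'.isInducing G (((bcFibre i' f' y' hy').app G).hom w) z (Opens.mem_top z)) ha).trans
        (phi_bcFibre i' f' y' hy' hi' G (show y' ∈ (Opens.map g).obj V from hV) u₁ z)).trans ?_
      refine (gm_res G (swap_le' sq V) (i' z) _ _).trans ?_
      refine Eq.trans ?_ (congrArg (theta g' F (i' z)).hom (phi_bcFibre i f (g y') hy hi F hV t z).symm)
      exact (theta_gm (i := g') F (i' z) _ t).symm
    have ha : Function.Bijective a := by
      constructor
      · intro v w hvw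
        refine b.1 (phi_ext hi.isInducing F _ _ fun z _ => (bijective_theta' g' F (i' z)).1 ?_)
        rw [← hΨ, hvw, hΨ]
      · intro v'
        let s' := ((bcFibre i' f' y' hy').app G).hom v'
        have key : ∀ x : (f ⁻¹' {g y'} : Set X), ∃ w : CohTop.stalk F x.1, ∀ (z) (e : i z = x.1),
            (theta g' F (i' z)).hom (e ▸ w) = phi hi'.isInducing G s' z (Opens.mem_top z) := by
          rintro ⟨x, hx⟩
          obtain ⟨z, rfl⟩ := hfib hx
          obtain ⟨w, hw⟩ := (bijective_theta' g' F (i' z)).2 (phi hi'.isInducing G s' z (Opens.mem_top z))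
          refine ⟨w, fun z' e => ?_⟩
          obtain rfl : z' = z := hi.injective e
          exact hw
        choose ψ hψ using key
        obtain ⟨W, hW, t, ht⟩ := extends_of_isLoc hc hr ψ fun p => by
          obtain ⟨_, hx⟩ := p
          obtain ⟨z, rfl⟩ := hfib hx
          obtain ⟨U', hzU', s, -, hs'⟩ := phi_loc hi'.isInducing G s' z (Opens.mem_top z)
          obtain ⟨U, hU, t, htU⟩ := TopCat.Presheaf.exists_germ_eq (C := AddCommGrpCat.{u}) (X := X) F.obj
            (x := i z) (ψ ⟨i z, hx⟩)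
          have e : gm G (i' z) hzU' s = gm G (i' z) hU (etaSec (i := g') F t) := by
            rw [← hs' z hzU' (Opens.mem_top z), ← hψ ⟨i z, hx⟩ z rfl]
            exact (congrArg (theta g' F (i' z)).hom htU.symm).trans (theta_gm (i := g') F (i' z) hU t)
          obtain ⟨M, hzM, hM₁, hM₂, hM⟩ := gm_eq_mem (i' z) hzU' hU s (etaSec (i := g') F t) e
          obtain ⟨O, hO, hOM⟩ := hi.isInducing.isOpen_iff.1 (M.2.preimage i'.hom.continuous)
          have hmem : ∀ z', i z' ∈ O → i' z' ∈ M := fun z' h => by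
            have : z' ∈ i ⁻¹' O := h
            rw [hOM] at this
            exact this
          refine ⟨U ⊓ ⟨O, hO⟩, ⟨hU, show z ∈ i ⁻¹' O by rw [hOM]; exact hzM⟩,
            (F.obj.map (homOfLE inf_le_left).op).hom t, fun p hp => ?_⟩
          obtain ⟨_, hx'⟩ := p
          obtain ⟨z', rfl⟩ := hfib hx'
          refine Eq.trans ?_ (gm_res F inf_le_left (i z') hp t).symm
          refine (bijective_theta' g' F (i' z')).1 ((hψ ⟨i z', hx'⟩ z' rfl).trans ?_)
          refine (hs' z' (hM₁ (hmem z' hp.2)) (Opens.mem_top z')).trans ?_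
          refine (hM (i' z') (hM₁ (hmem z' hp.2)) hp.1 (hmem z' hp.2)).trans ?_
          exact (theta_gm (i := g') F (i' z') hp.1 t).symm
        obtain ⟨V, hV, hle⟩ := exists_nhd_fibre f (g y') hf.isClosedMap hW
        refine ⟨gm ((CohTop.push f).obj F) (g y') hV ((F.obj.map (homOfLE hle).op).hom t),
          b'.1 (phi_ext hi'.isInducing G _ _ fun z _ => ?_)⟩
        refine (hΨ _ z).trans (Eq.trans ?_ (hψ ⟨i z, hy z⟩ z rfl))
        refine congrArg (theta g' F (i' z)).hom ?_
        exact (phi_bcFibre i f (g y') hy hi F hV _ z).trans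
          ((gm_res F hle (i z) _ t).trans (ht ⟨i z, hy z⟩).symm)
    rw [ConcreteCategory.isIso_iff_bijective]
    exact (Function.Bijective.of_comp_iff _ (bijective_theta' g ((CohTop.push f).obj F) y')).1 ha
  exact NatIso.isIso_of_isIso_app _

include sq in
/-- Proper base change. -/
theorem nonempty_pull_Rpush_iso (hf : IsProperMap f)
    (hs : ∀ x x' : X, f x = f x' → x ≠ x' → ∃ U V : Set X, IsOpen U ∧ IsOpen V ∧ x ∈ U ∧ x' ∈ V ∧ Disjoint U V)
    (F : CohTop.Ab X) (p : ℕ) :
    Nonempty ((CohTop.pull g).obj ((CohTop.Rpush f p).obj F) ≅ (CohTop.Rpush f' p).obj ((CohTop.pull g').obj F)) := by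
  have := isIso_bc sq hf hs
  have hf' := isProperMap_of_isPullback sq hf
  have : PreservesLimitsOfSize.{0, 0} (CohTop.push f') :=
    (TopCat.Sheaf.pullbackPushforwardAdjunction AddCommGrpCat.{u} f').rightAdjoint_preservesLimits
  obtain ⟨e⟩ := SiteBase.nonempty_rightDerived_precomp_of_acyclic (CohTop.pull g') (CohTop.push f')
    (fun Q hQ j => by
      haveI := hQ
      rw [IsZero.iff_id_eq_zero]
      have hz : ∀ y' : Y', IsZero (CohTop.stalk ((CohTop.Rpush f' (j + 1)).obj ((CohTop.pull g').obj Q)) y') := fun y' => by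
        have hc := hf.isCompact_preimage (isCompact_singleton (x := g y'))
        have hr : RelHaus (f ⁻¹' {g y'}) := fun x hx x' hx' hne =>
          hs x x' ((show f x = g y' from hx).trans (show f x' = g y' from hx').symm) hne
        obtain ⟨hi, hfib, hcs⟩ := fibre_facts sq y' hc
        have hc' := hf'.isCompact_preimage (isCompact_singleton (x := y'))
        have hr' : RelHaus (f' ⁻¹' {y'}) := fun x hx x' hx' hne => by
          have hne' : g' x ≠ g' x' := fun e => hne (congrArg Subtype.val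
            (hi.injective (a₁ := (⟨x, hx⟩ : (f' ⁻¹' {y'} : Set X'))) (a₂ := ⟨x', hx'⟩) e))
          obtain ⟨U, V, hU, hV, hxU, hxV, hd⟩ := hr _ (mem_fib sq y' ⟨x, hx⟩) _ (mem_fib sq y' ⟨x', hx'⟩) hne'
          exact ⟨_, _, hU.preimage g'.hom.continuous, hV.preimage g'.hom.continuous, hxU, hxV, hd.preimage _⟩
        have : CompactSpace (TopCat.of (f' ⁻¹' {y'} : Set X')) := hcs
        obtain ⟨e⟩ := nonempty_stalk_Rpush (fibI (f' := f') y') f' y' hf'.isClosedMap (fun x hx => ⟨⟨x, hx⟩, rfl⟩)
          (isEmbedding_incl _) hc' hr' (fun z => z.2) ((CohTop.pull g').obj Q) (j + 1)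
        have hr'' : RelHaus (Set.range (fibI (f' := f') y' ≫ g')) :=
          hr.mono (by rintro _ ⟨z, rfl⟩; exact mem_fib sq y' z)
        have := subsingleton_H_pull_injective (fibI (f' := f') y' ≫ g') hi hr'' Q j
        let ep : (CohTop.pull (fibI (f' := f') y')).obj ((CohTop.pull g').obj Q) ≅
            (CohTop.pull (fibI (f' := f') y' ≫ g')).obj Q :=
          (Adjunction.leftAdjointUniq
            ((TopCat.Sheaf.pullbackPushforwardAdjunction AddCommGrpCat.{u} g').comp
              (TopCat.Sheaf.pullbackPushforwardAdjunction AddCommGrpCat.{u} (fibI (f' := f') y')))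
            (TopCat.Sheaf.pullbackPushforwardAdjunction AddCommGrpCat.{u} (fibI (f' := f') y' ≫ g'))).app Q
        have : Subsingleton (CohTop.H ((CohTop.pull (fibI (f' := f') y')).obj ((CohTop.pull g').obj Q)) (j + 1)) :=
          (((DescentSS.nonempty_rightDerived_secFun_iso ((CohTop.pull (fibI (f' := f') y')).obj ((CohTop.pull g').obj Q)) (j + 1)).some.symm ≪≫
            ((DescentSS.secFun (TopCat.of (f' ⁻¹' {y'} : Set X')) ⊤).rightDerived (j + 1)).mapIso ep ≪≫
            (DescentSS.nonempty_rightDerived_secFun_iso ((CohTop.pull (fibI (f' := f') y' ≫ g')).obj Q) (j + 1)).some).addCommGroupIsoToAddEquiv).toEquiv.subsingleton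
        exact IsZero.of_iso (AddCommGrpCat.isZero_of_subsingleton _) e
      exact CategoryTheory.Sheaf.hom_ext (NatTrans.ext (funext fun V => AddCommGrpCat.hom_ext (AddMonoidHom.ext fun t =>
        sec_ext _ _ fun y hy => (AddCommGrpCat.subsingleton_of_isZero (hz y)).elim _ _)))) p
  exact ⟨((SiteBase.rightDerivedCompIso (CohTop.push f) (CohTop.pull g) p).app F).symm ≪≫
    (SiteBase.rightDerivedCongr (asIso (bc sq)) p).app F ≪≫ e.app F⟩

end Groth.Agent.CompactSub
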