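import Groth.Agent.SiteBase.CompactSub.Soft
import Groth.Agent.SiteBase.DescentSS.PushProd
import Groth.Agent.SiteBase.DerivedPrecompAcyclic
import Groth.Agent.SiteBase.Rpush
import Groth.Agent.SiteBase.LanExact

/-!
# Cohomology of a compact relatively Hausdorff subspace as a colimit
-/

set_option autoImplicit false
set_option linter.unusedSectionVars false
set_option backward.isDefEq.respectTransparency false

universe u

open CategoryTheory CategoryTheory.Limits Opposite TopologicalSpace Topology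
open Groth.Agent.DescentSS.Germ (gm gm_res)

noncomputable section

namespace Groth.Agent.CompactSub

variable {X : TopCat.{u}} (A : Set X)

/-- The inclusion. -/
abbrev incl : TopCat.of A ⟶ X := TopCat.ofHom ⟨Subtype.val, continuous_subtype_val⟩

lemma isEmbedding_incl : IsEmbedding (incl A) := IsEmbedding.subtypeVal

/-- The neighbourhoods. -/
abbrev Nbhd : ObjectProperty (Opens X)ᵒᵖ := fun U => A ⊆ (U.unop : Set X)

instance : IsFiltered (Nbhd A).FullSubcategory where
  cocone_objs U V := ⟨⟨op (U.obj.unop ⊓ V.obj.unop), Set.subset_inter U.property V.property⟩,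
    ObjectProperty.homMk (homOfLE inf_le_left).op, ObjectProperty.homMk (homOfLE inf_le_right).op, trivial⟩
  cocone_maps U V f g := ⟨V, 𝟙 _, ObjectProperty.hom_ext _ (Quiver.Hom.unop_inj (Subsingleton.elim _ _))⟩
  nonempty := ⟨⟨op ⊤, Set.subset_univ _⟩⟩

/-- Sections on neighbourhoods. -/
abbrev germFun : CohTop.Ab X ⥤ AddCommGrpCat.{u} :=
  sheafToPresheaf (Opens.grothendieckTopology X) AddCommGrpCat.{u} ⋙
    ((Functor.whiskeringLeft (Nbhd A).FullSubcategory (Opens X)ᵒᵖ AddCommGrpCat.{u}).obj (Nbhd A).ι ⋙ colim)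

variable {A} {Z : TopCat.{u}} (i : Z ⟶ X) (hiA : ∀ z, i z ∈ A)

/-- Global sections of the inverse image. -/
abbrev pullSec : CohTop.Ab X ⥤ AddCommGrpCat.{u} := CohTop.pull i ⋙ DescentSS.secFun Z ⊤

lemma top_le_preimage (U : (Nbhd A).FullSubcategory) (h : ∀ z, i z ∈ A) :
    (⊤ : Opens Z) ≤ (Opens.map i).obj U.obj.unop := fun z _ => U.property (h z)

/-- The restriction to the subspace. -/
def resCocone (F : CohTop.Ab X) : Cocone ((Nbhd A).ι ⋙ F.obj) where
  pt := (pullSec i).obj F
  ι :=
    { app := fun U => ((TopCat.Sheaf.pullbackPushforwardAdjunction AddCommGrpCat.{u} i).unit.app F).hom.app U.obj ≫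
        ((CohTop.pull i).obj F).obj.map (homOfLE (top_le_preimage i U hiA)).op
      naturality := fun U V f => by
        let η := ((TopCat.Sheaf.pullbackPushforwardAdjunction AddCommGrpCat.{u} i).unit.app F).hom
        show F.obj.map ((Nbhd A).ι.map f) ≫ η.app V.obj ≫
            ((CohTop.pull i).obj F).obj.map (homOfLE (top_le_preimage i V hiA)).op =
          (η.app U.obj ≫ ((CohTop.pull i).obj F).obj.map (homOfLE (top_le_preimage i U hiA)).op) ≫ 𝟙 _
        rw [Category.comp_id]
        exact ((η.naturality_assoc ((Nbhd A).ι.map f) _)).trans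
          (congrArg (η.app U.obj ≫ ·) (((CohTop.pull i).obj F).obj.map_comp _ _).symm) }

/-- The comparison. -/
def cmp : germFun A ⟶ pullSec i where
  app F := colimit.desc _ (resCocone i hiA F)
  naturality F G φ := colimit.hom_ext fun U => by
    show colimit.ι ((Nbhd A).ι ⋙ F.obj) U ≫
        colim.map (Functor.whiskerLeft (Nbhd A).ι φ.hom) ≫ colimit.desc _ (resCocone i hiA G) =
      colimit.ι ((Nbhd A).ι ⋙ F.obj) U ≫ colimit.desc _ (resCocone i hiA F) ≫ (pullSec i).map φ
    refine (ι_colimMap_assoc (Functor.whiskerLeft (Nbhd A).ι φ.hom) U _).trans ?_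
    refine (congrArg (_ ≫ ·) (colimit.ι_desc (resCocone i hiA G) U)).trans ?_
    refine Eq.trans ?_ (colimit.ι_desc_assoc (resCocone i hiA F) U _).symm
    let adj := TopCat.Sheaf.pullbackPushforwardAdjunction AddCommGrpCat.{u} i
    show φ.hom.app U.obj ≫ (adj.unit.app G).hom.app U.obj ≫ ((CohTop.pull i).obj G).obj.map _ =
      ((adj.unit.app F).hom.app U.obj ≫ ((CohTop.pull i).obj F).obj.map _) ≫ ((CohTop.pull i).map φ).hom.app (op ⊤)
    rw [Category.assoc, ((CohTop.pull i).map φ).hom.naturality, ← Category.assoc, ← Category.assoc]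
    exact congrArg (· ≫ _) (congrArg (fun t => t.hom.app U.obj) (adj.unit.naturality φ))

lemma phi_cmp (hi : IsEmbedding i) (F : CohTop.Ab X) (U : (Nbhd A).FullSubcategory)
    (t : F.obj.obj U.obj) (z : Z) :
    phi hi.isInducing F (((cmp i hiA).app F).hom ((colimit.ι ((Nbhd A).ι ⋙ F.obj) U).hom t)) z (Opens.mem_top z) =
      gm F (i z) (U.property (hiA z)) t := by
  refine (congrArg (fun s => phi hi.isInducing F s z (Opens.mem_top z))
    (ConcreteCategory.congr_hom (colimit.ι_desc (resCocone i hiA F) U) t)).trans ?_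
  exact (phi_res hi.isInducing F (top_le_preimage i U hiA) (etaSec F t) z (Opens.mem_top z)).trans
    (phi_etaSec hi.isInducing F t z _)

variable (hA : A ⊆ Set.range i)

include hA in
theorem bijective_cmp (hi : IsEmbedding i) (hc : IsCompact A) (hr : RelHaus A) (F : CohTop.Ab X) :
    Function.Bijective ((cmp i hiA).app F).hom := by
  constructor
  · intro a b hab
    obtain ⟨U, t, rfl⟩ := Concrete.colimit_exists_rep ((Nbhd A).ι ⋙ F.obj) a
    obtain ⟨V, t', rfl⟩ := Concrete.colimit_exists_rep ((Nbhd A).ι ⋙ F.obj) b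
    obtain ⟨M, h₁, h₂, hAM, e⟩ := exists_nhds_eq (F := F) U.property V.property t t' fun x hx => by
      obtain ⟨z, rfl⟩ := hA hx
      exact (phi_cmp i hiA hi F U t z).symm.trans
        ((congrArg (fun s => phi hi.isInducing F s z (Opens.mem_top z)) hab).trans (phi_cmp i hiA hi F V t' z))
    let W : (Nbhd A).FullSubcategory := ⟨op M, hAM⟩
    refine (ConcreteCategory.congr_hom (colimit.w ((Nbhd A).ι ⋙ F.obj)
      (ObjectProperty.homMk (homOfLE h₁).op : U ⟶ W)) t).symm.trans ?_
    refine Eq.trans ?_ (ConcreteCategory.congr_hom (colimit.w ((Nbhd A).ι ⋙ F.obj)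
      (ObjectProperty.homMk (homOfLE h₂).op : V ⟶ W)) t')
    exact congrArg (colimit.ι ((Nbhd A).ι ⋙ F.obj) W).hom e
  · intro s
    have key : ∀ x : A, ∃ v : CohTop.stalk F x.1, ∀ (z : Z) (e : i z = x.1),
        e ▸ phi hi.isInducing F s z (Opens.mem_top z) = v := by
      rintro ⟨x, hx⟩
      obtain ⟨z, rfl⟩ := hA hx
      refine ⟨phi hi.isInducing F s z (Opens.mem_top z), fun z' e => ?_⟩
      obtain rfl : z' = z := hi.injective e
      rfl
    choose ψ hψ using key
    obtain ⟨W, hW, t, ht⟩ := extends_of_isLoc hc hr ψ fun a => by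
      obtain ⟨_, hx⟩ := a
      obtain ⟨z, rfl⟩ := hA hx
      obtain ⟨U, hzU, t, -, ht⟩ := phi_loc hi.isInducing F s z (Opens.mem_top z)
      refine ⟨U, hzU, t, fun b hb => ?_⟩
      obtain ⟨_, hb'⟩ := b
      obtain ⟨z', rfl⟩ := hA hb'
      exact (hψ ⟨i z', hb'⟩ z' rfl).symm.trans (ht z' hb (Opens.mem_top z'))
    refine ⟨(colimit.ι ((Nbhd A).ι ⋙ F.obj) ⟨op W, hW⟩).hom t, phi_ext hi.isInducing F _ _ fun z _ => ?_⟩
    refine (phi_cmp i hiA hi F ⟨op W, hW⟩ t z).trans ?_
    exact (ht ⟨i z, hiA z⟩).symm.trans (hψ ⟨i z, hiA z⟩ z rfl).symm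

include hA in
/-- Sections of the subspace are the colimit of sections of neighbourhoods. -/
theorem isIso_cmp (hi : IsEmbedding i) (hc : IsCompact A) (hr : RelHaus A) : IsIso (cmp i hiA) := by
  have : ∀ F, IsIso ((cmp i hiA).app F) := fun F =>
    (ConcreteCategory.isIso_iff_bijective _).2 (bijective_cmp i hiA hA hi hc hr F)
  exact NatIso.isIso_of_isIso_app _

instance additive_pull : (CohTop.pull i).Additive :=
  have : (TopCat.Sheaf.pushforward AddCommGrpCat.{u} i).Additive :=
    inferInstanceAs (CohTop.push i).Additive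
  (TopCat.Sheaf.pullbackPushforwardAdjunction AddCommGrpCat.{u} i).left_adjoint_additive

/-- Inverse image is exact. -/
instance preservesFiniteColimits_pull : PreservesFiniteColimits (CohTop.pull i) :=
  have : PreservesColimitsOfSize.{0, 0} (CohTop.pull i) :=
    (TopCat.Sheaf.pullbackPushforwardAdjunction AddCommGrpCat.{u} i).leftAdjoint_preservesColimits
  inferInstance

/-- The inverse images of injectives are acyclic. -/
theorem subsingleton_H_pull_injective [CompactSpace Z] (hi : IsEmbedding i) (hr : RelHaus (Set.range i))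
    (Q : CohTop.Ab X) [Injective Q] (n : ℕ) : Subsingleton (CohTop.H ((CohTop.pull i).obj Q) (n + 1)) :=
  haveI := SiteBase.isFlasque_of_injective Q
  haveI : T2Space Z := ⟨fun x y hxy => by
    obtain ⟨U, V, hU, hV, hx, hy, hd⟩ := hr _ ⟨x, rfl⟩ _ ⟨y, rfl⟩ (fun e => hxy (hi.injective e))
    exact ⟨_, _, hU.preimage i.hom.continuous, hV.preimage i.hom.continuous, hx, hy, hd.preimage _⟩⟩
  subsingleton_H_of_isSoft _ (isSoft_pull hi hr Q) n

/-- Cohomology of the inverse image as a derived functor on the space. -/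
theorem nonempty_rightDerived_pullSec [CompactSpace Z] (hi : IsEmbedding i) (hr : RelHaus (Set.range i))
    (F : CohTop.Ab X) (q : ℕ) :
    Nonempty (((pullSec i).rightDerived q).obj F ≅ AddCommGrpCat.of (CohTop.H ((CohTop.pull i).obj F) q)) := by
  obtain ⟨e⟩ := SiteBase.nonempty_rightDerived_precomp_of_acyclic (CohTop.pull i) (DescentSS.secFun Z ⊤)
    (fun Q hQ j => by
      haveI := hQ
      haveI := subsingleton_H_pull_injective i hi hr Q j
      exact IsZero.of_iso (AddCommGrpCat.isZero_of_subsingleton _)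
        (DescentSS.nonempty_rightDerived_secFun_iso ((CohTop.pull i).obj Q) (j + 1)).some) q
  exact ⟨e.app F ≪≫ (DescentSS.nonempty_rightDerived_secFun_iso _ q).some⟩

include hiA hA in
/-- Cohomology of the subspace is the colimit of the cohomology of neighbourhoods. -/
theorem nonempty_colim_cohomology (hi : IsEmbedding i) (hc : IsCompact A) (hr : RelHaus A) [CompactSpace Z]
    (F : CohTop.Ab X) (q : ℕ) :
    Nonempty (colimit ((Nbhd A).ι ⋙ (Sheaf.cohomologyPresheafFunctor (Opens.grothendieckTopology X) q).obj F) ≅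
      AddCommGrpCat.of (CohTop.H ((CohTop.pull i).obj F) q)) := by
  have := isIso_cmp i hiA hA hi hc hr
  let E : ((Opens X)ᵒᵖ ⥤ AddCommGrpCat.{u}) ⥤ AddCommGrpCat.{u} :=
    (Functor.whiskeringLeft (Nbhd A).FullSubcategory (Opens X)ᵒᵖ AddCommGrpCat.{u}).obj (Nbhd A).ι ⋙ colim
  have hr' : RelHaus (Set.range i) := hr.mono (by rintro _ ⟨z, rfl⟩; exact hiA z)
  have : (pullSec i).Additive := inferInstance
  exact ⟨(E.mapIso ((SiteBase.rightDerivedIsoCohomology q).app F)).symm ≪≫
    ((SiteBase.rightDerivedCompIso (sheafToPresheaf (Opens.grothendieckTopology X) AddCommGrpCat.{u}) E q).app F).symm ≪≫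
    (SiteBase.rightDerivedCongr (asIso (cmp i hiA)) q).app F ≪≫
    (nonempty_rightDerived_pullSec i hi hr' F q).some⟩

end Groth.Agent.CompactSub
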