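import Groth.Agent.SiteBase.DescentSS.GermFam
import Groth.Agent.SiteBase.ClosedEmb

/-!
# Sections of an inverse image along an inducing map as families of germs
-/

set_option autoImplicit false
set_option linter.unusedSectionVars false
set_option backward.isDefEq.respectTransparency false

universe u

open CategoryTheory CategoryTheory.Limits Opposite TopologicalSpace Topology
open Groth.Agent.DescentSS.Germ (gm gm_res)

noncomputable section

namespace Groth.Agent.CompactSub

variable {X : TopCat.{u}}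

lemma gm_eq_mem {F : CohTop.Ab X} {W W' : Opens X} (x : X) (hx : x ∈ W) (hx' : x ∈ W')
    (t : F.obj.obj (op W)) (t' : F.obj.obj (op W')) (h : gm F x hx t = gm F x hx' t') :
    ∃ M : Opens X, x ∈ M ∧ M ≤ W ∧ M ≤ W' ∧
      ∀ y (hy : y ∈ W) (hy' : y ∈ W'), y ∈ M → gm F y hy t = gm F y hy' t' := by
  obtain ⟨M, hxM, i, i', hM⟩ := TopCat.Presheaf.germ_eq (C := AddCommGrpCat.{u}) (X := X) F.obj x hx hx' t t' h
  refine ⟨M, hxM, i.le, i'.le, fun y hy hy' hyM => ?_⟩
  exact (TopCat.Presheaf.germ_res_apply (C := AddCommGrpCat.{u}) (X := X) F.obj i y hyM t).symm.trans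
    ((congrArg (gm F y hyM) hM).trans (TopCat.Presheaf.germ_res_apply (C := AddCommGrpCat.{u}) (X := X) F.obj i' y hyM t'))

lemma isOpen_eqLocus {F : CohTop.Ab X} {W W' : Opens X} (t : F.obj.obj (op W)) (t' : F.obj.obj (op W')) :
    IsOpen {y : X | ∃ (hy : y ∈ W) (hy' : y ∈ W'), gm F y hy t = gm F y hy' t'} := by
  refine isOpen_iff_forall_mem_open.2 fun y hy => ?_
  obtain ⟨hy₁, hy₂, e⟩ := hy
  obtain ⟨M, hyM, hM₁, hM₂, hM⟩ := gm_eq_mem y hy₁ hy₂ t t' e
  exact ⟨M, fun z hz => ⟨hM₁ hz, hM₂ hz, hM z _ _ hz⟩, M.2, hyM⟩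

lemma sec_ext {F : CohTop.Ab X} {W : Opens X} (a b : F.obj.obj (op W))
    (h : ∀ x (hx : x ∈ W), gm F x hx a = gm F x hx b) : a = b :=
  TopCat.Presheaf.section_ext (C := AddCommGrpCat.{u}) F W a b h

/-- A family of germs on a subset is locally given by sections. -/
def IsLoc (F : CohTop.Ab X) {A : Set X} (φ : ∀ a : A, CohTop.stalk F a.1) : Prop :=
  ∀ a : A, ∃ (W : Opens X) (_ : a.1 ∈ W) (t : F.obj.obj (op W)),
    ∀ (b : A) (hb : b.1 ∈ W), φ b = gm F b.1 hb t

/-- A family of germs is given by a section on a neighbourhood of the whole subset. -/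
def Extends (F : CohTop.Ab X) {A : Set X} (φ : ∀ a : A, CohTop.stalk F a.1) : Prop :=
  ∃ (W : Opens X) (hW : A ⊆ W) (t : F.obj.obj (op W)), ∀ b : A, φ b = gm F b.1 (hW b.2) t

section Pull

variable {Z : TopCat.{u}} {i : Z ⟶ X} (hi : IsInducing i) (F : CohTop.Ab X)

/-- The unit on sections. -/
abbrev etaSec {W : Opens X} (t : F.obj.obj (op W)) :
    ((CohTop.pull i).obj F).obj.obj (op ((Opens.map i).obj W)) :=
  (((TopCat.Sheaf.pullbackPushforwardAdjunction AddCommGrpCat.{u} i).unit.app F).hom.app (op W)).hom t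

variable (i) in
/-- The comparison of stalks. -/
def theta (z : Z) : CohTop.stalk F (i z) ⟶ CohTop.stalk ((CohTop.pull i).obj F) z :=
  (ClosedEmb.stalkF (i z)).map ((TopCat.Sheaf.pullbackPushforwardAdjunction AddCommGrpCat.{u} i).unit.app F) ≫
    TopCat.Presheaf.stalkPushforward AddCommGrpCat.{u} i ((CohTop.pull i).obj F).obj z

include hi in
lemma bijective_theta (z : Z) : Function.Bijective (theta i F z).hom := by
  have := ClosedEmb.isIso_stalk_unit hi F z
  have := TopCat.Presheaf.stalkPushforward.stalkPushforward_iso_of_isInducing AddCommGrpCat.{u} hi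
    ((CohTop.pull i).obj F).obj z
  have : IsIso (theta i F z) := IsIso.comp_isIso
  exact (ConcreteCategory.isIso_iff_bijective _).1 this

lemma theta_gm {W : Opens X} (z : Z) (hz : i z ∈ W) (t : F.obj.obj (op W)) :
    (theta i F z).hom (gm F (i z) hz t) = gm ((CohTop.pull i).obj F) z hz (etaSec F t) := by
  refine (congrArg (TopCat.Presheaf.stalkPushforward AddCommGrpCat.{u} i ((CohTop.pull i).obj F).obj z).hom
    (TopCat.Presheaf.stalkFunctor_map_germ_apply (C := AddCommGrpCat.{u}) W (i z) hz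
      ((TopCat.Sheaf.pullbackPushforwardAdjunction AddCommGrpCat.{u} i).unit.app F).hom t)).trans ?_
  exact ConcreteCategory.congr_hom
    (TopCat.Presheaf.stalkPushforward_germ AddCommGrpCat.{u} i ((CohTop.pull i).obj F).obj W z hz) _

/-- The germ family of a section of the inverse image. -/
def phi {V : Opens Z} (s : ((CohTop.pull i).obj F).obj.obj (op V)) (z : Z) (hz : z ∈ V) :
    CohTop.stalk F (i z) :=
  (Equiv.ofBijective _ (bijective_theta hi F z)).symm (gm ((CohTop.pull i).obj F) z hz s)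

lemma theta_phi {V : Opens Z} (s : ((CohTop.pull i).obj F).obj.obj (op V)) (z : Z) (hz : z ∈ V) :
    (theta i F z).hom (phi hi F s z hz) = gm ((CohTop.pull i).obj F) z hz s :=
  Equiv.apply_symm_apply (Equiv.ofBijective _ (bijective_theta hi F z)) _

lemma phi_etaSec {W : Opens X} (t : F.obj.obj (op W)) (z : Z) (hz : i z ∈ W) :
    phi hi F (etaSec F t) z hz = gm F (i z) hz t :=
  (bijective_theta hi F z).1 ((theta_phi hi F _ z hz).trans (theta_gm F z hz t).symm)

lemma phi_ext {V : Opens Z} (s s' : ((CohTop.pull i).obj F).obj.obj (op V))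
    (h : ∀ z hz, phi hi F s z hz = phi hi F s' z hz) : s = s' :=
  sec_ext s s' fun z hz => (theta_phi hi F s z hz).symm.trans
    ((congrArg (theta i F z).hom (h z hz)).trans (theta_phi hi F s' z hz))

lemma phi_add {V : Opens Z} (s s' : ((CohTop.pull i).obj F).obj.obj (op V)) (z : Z) (hz : z ∈ V) :
    phi hi F (s + s') z hz = phi hi F s z hz + phi hi F s' z hz := by
  refine (bijective_theta hi F z).1 ?_
  rw [map_add, theta_phi, theta_phi, theta_phi]
  exact map_add _ _ _

lemma phi_res {V V' : Opens Z} (h : V' ≤ V) (s : ((CohTop.pull i).obj F).obj.obj (op V)) (z : Z) (hz : z ∈ V') :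
    phi hi F ((((CohTop.pull i).obj F).obj.map (homOfLE h).op).hom s) z hz = phi hi F s z (h hz) :=
  congrArg (Equiv.ofBijective _ (bijective_theta hi F z)).symm (gm_res _ h z hz s)

lemma phi_loc {V : Opens Z} (s : ((CohTop.pull i).obj F).obj.obj (op V)) (z : Z) (hz : z ∈ V) :
    ∃ (W : Opens X) (_ : i z ∈ W) (t : F.obj.obj (op W)), (∀ z', i z' ∈ W → z' ∈ V) ∧
      ∀ z' (hz' : i z' ∈ W) (hzV : z' ∈ V), phi hi F s z' hzV = gm F (i z') hz' t := by
  obtain ⟨W, hzW, t, ht⟩ := TopCat.Presheaf.exists_germ_eq (C := AddCommGrpCat.{u}) (X := X) F.obj (x := i z) (phi hi F s z hz)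
  have e : gm ((CohTop.pull i).obj F) z hz s = gm ((CohTop.pull i).obj F) z hzW (etaSec F t) := by
    rw [← theta_phi hi F s z hz, ← theta_gm F z hzW t]
    exact congrArg _ ht.symm
  obtain ⟨M, hzM, hMV, hMW, hM⟩ := gm_eq_mem z hz hzW s (etaSec F t) e
  obtain ⟨O, hO, hOM⟩ := hi.isOpen_iff.1 M.2
  have hmem : ∀ z', i z' ∈ W ⊓ (⟨O, hO⟩ : Opens X) → z' ∈ M := fun z' h => by
    show z' ∈ M.carrier
    rw [← hOM]
    exact h.2
  refine ⟨W ⊓ ⟨O, hO⟩, ⟨hzW, show z ∈ i ⁻¹' O by rw [hOM]; exact hzM⟩,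
    (F.obj.map (homOfLE inf_le_left).op).hom t, fun z' h => hMV (hmem z' h), fun z' hz' hzV => ?_⟩
  refine Eq.trans ?_ (gm_res F inf_le_left (i z') hz' t).symm
  refine (bijective_theta hi F z').1 ((theta_phi hi F s z' hzV).trans (Eq.trans ?_ (theta_gm F z' hz'.1 t).symm))
  exact hM z' hzV hz'.1 (hmem z' hz')

end Pull

end Groth.Agent.CompactSub
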